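import Mathlib
import Groth.Agent.FlatModel.Core

/-!
Generic freeness without Noetherian hypotheses: finitely many pieces `V(p) ∩ D(f)` of the base on
which a finitely presented module becomes flat after every base change.
-/

universe u

open MvPolynomial TensorProduct

namespace Groth.Agent.FlatStrat

open FlatModel

section baseChange

variable {a n : ℕ} {R₀ R R' : Type u} [CommRing R₀] [CommRing R] [CommRing R'] [Algebra R₀ R]
  [Algebra R₀ R'] [Algebra R R'] [IsScalarTower R₀ R R'] (K₀ : Submodule (MvPolynomial (Fin n) R₀) (V a n R₀))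

/-- The module cut out by the relations. -/
abbrev Quot' (R : Type u) [CommRing R] [Algebra R₀ R] : Type u := V a n R ⧸ (KK K₀ R).restrictScalars R

theorem mapL_comp (w : V a n R₀) : mapL (R₀ := R) R' (mapL (R₀ := R₀) R w) = mapL R' w := by
  show mapV _ (mapV _ w) = mapV _ w
  rw [mapV_mapV, ← IsScalarTower.algebraMap_eq]

/-- The presented module commutes with base change. -/
theorem nonempty_quot_baseChange : Nonempty (R' ⊗[R] Quot' K₀ R ≃ₗ[R'] Quot' K₀ R') := by
  let q : V a n R →ₗ[R] Quot' K₀ R := Submodule.mkQ _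
  let q' : V a n R' →ₗ[R'] Quot' K₀ R' := Submodule.mkQ _
  let ψ : Quot' K₀ R →ₗ[R] Quot' K₀ R' :=
    Submodule.liftQ _ ((q'.restrictScalars R).comp (mapL (R₀ := R) R')) (fun x hx => by
      rw [Submodule.restrictScalars_mem] at hx
      have hx' : x ∈ ((⊤ : Ideal R).map C : Ideal (MvPolynomial (Fin n) R)) • KK K₀ R := by
        rw [Ideal.map_top, Submodule.top_smul]
        exact hx
      have hx'' := smul_KK_le_closure K₀ ⊤ hx'
      refine (AddSubmonoid.closure_le (S := (LinearMap.ker ((q'.restrictScalars R).comp (mapL (R₀ := R) R'))).toAddSubmonoid)).2 ?_ hx''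
      rintro _ ⟨r, -, w, hw, rfl⟩
      show ((q'.restrictScalars R).comp (mapL (R₀ := R) R')) (r • mapL R w) = 0
      rw [map_smul, LinearMap.comp_apply, mapL_comp]
      rw [show (q'.restrictScalars R) (mapL R' w) = 0 from
        (Submodule.Quotient.mk_eq_zero _).2 (mapL_mem_KK K₀ hw), smul_zero])
  let θ₀ : V a n R' →ₗ[R'] R' ⊗[R] Quot' K₀ R :=
    (B a n R').constr R' fun e => (1 : R') ⊗ₜ[R] q (B a n R e)
  have hθ₀ : (θ₀.restrictScalars R).comp (mapL (R₀ := R) R') =
      (TensorProduct.mk R R' (Quot' K₀ R) 1).comp q := by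
    refine (B a n R).ext fun e => ?_
    simp only [LinearMap.comp_apply, LinearMap.restrictScalars_apply, mapL_B]
    exact Module.Basis.constr_basis _ _ _ _
  let θ : Quot' K₀ R' →ₗ[R'] R' ⊗[R] Quot' K₀ R := Submodule.liftQ _ θ₀ fun x hx => by
    rw [Submodule.restrictScalars_mem] at hx
    have hx' : x ∈ ((⊤ : Ideal R').map C : Ideal (MvPolynomial (Fin n) R')) • KK K₀ R' := by
      rw [Ideal.map_top, Submodule.top_smul]
      exact hx
    refine (AddSubmonoid.closure_le (S := (LinearMap.ker θ₀).toAddSubmonoid)).2 ?_ (smul_KK_le_closure K₀ ⊤ hx')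
    rintro _ ⟨r, -, w, hw, rfl⟩
    show θ₀ (r • mapL R' w) = 0
    rw [map_smul, ← mapL_comp (R := R) w]
    have h1 := LinearMap.congr_fun hθ₀ (mapL R w)
    simp only [LinearMap.comp_apply, LinearMap.restrictScalars_apply, TensorProduct.mk_apply] at h1
    rw [h1, show q (mapL R w) = 0 from (Submodule.Quotient.mk_eq_zero _).2 (mapL_mem_KK K₀ hw),
      tmul_zero, smul_zero]
  refine ⟨LinearEquiv.ofLinearMap (ψ.liftBaseChange R') θ ?_ ?_⟩
  · refine Submodule.linearMap_qext _ ((B a n R').ext fun e => ?_)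
    simp only [LinearMap.comp_apply, Submodule.mkQ_apply, LinearMap.id_apply]
    show (ψ.liftBaseChange R') (θ₀ (B a n R' e)) = q' (B a n R' e)
    rw [Module.Basis.constr_basis, LinearMap.liftBaseChange_tmul, one_smul]
    show q' (mapL R' (B a n R e)) = _
    rw [mapL_B]
  · refine TensorProduct.AlgebraTensorModule.ext fun r m => ?_
    obtain ⟨x, rfl⟩ := Submodule.mkQ_surjective _ m
    simp only [LinearMap.comp_apply, LinearMap.liftBaseChange_tmul, LinearMap.id_apply, map_smul]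
    show r • θ₀ (mapL (R₀ := R) R' x) = r ⊗ₜ q x
    rw [show θ₀ (mapL (R₀ := R) R' x) = (1 : R') ⊗ₜ[R] q x from LinearMap.congr_fun hθ₀ x,
      smul_tmul', smul_eq_mul, mul_one]

end baseChange

/-- A module which is free after inverting `f` is flat after any base change inverting `f`. -/
theorem flat_baseChange_of_free {G A N : Type u} [CommRing G] [CommRing A] [Algebra G A] [AddCommGroup N]
    [Module G N] {ι : Type u} (φ : (ι →₀ G) →ₗ[G] N) (hφ : Function.Injective φ) (f : G)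
    (hgen : ∀ y : N, ∃ (k : ℕ) (c : ι →₀ G), f ^ k • y = φ c) (hf : IsUnit (algebraMap G A f)) :
    Module.Flat A (A ⊗[G] N) := by
  obtain ⟨w, hw⟩ := hf
  let mA : (ι →₀ G) →ₗ[G] (ι →₀ A) := Finsupp.mapRange.linearMap (Algebra.linearMap G A)
  choose k c hkc using hgen
  let r₀ : N → (ι →₀ A) := fun y => ((↑(w⁻¹) : A) ^ k y) • mA (c y)
  have huniq : ∀ (y : N) (l : ℕ) (d : ι →₀ G), f ^ l • y = φ d → r₀ y = ((↑(w⁻¹) : A) ^ l) • mA d := by
    intro y l d hd
    have h1 : f ^ l • c y = f ^ k y • d := hφ (by rw [map_smul, map_smul, ← hd, ← hkc y, smul_comm])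
    have h2 := congrArg mA h1
    rw [map_smul, map_smul, ← algebraMap_smul A (f ^ l), ← algebraMap_smul A (f ^ k y), map_pow, map_pow,
      ← hw] at h2
    have h3 := congrArg (fun z => ((↑(w⁻¹) : A) ^ l * (↑(w⁻¹) : A) ^ k y) • z) h2
    simp only [smul_smul] at h3
    have e1 : (↑(w⁻¹) : A) ^ l * (↑(w⁻¹) : A) ^ k y * (↑w : A) ^ l = (↑(w⁻¹) : A) ^ k y := by
      rw [mul_right_comm, ← mul_pow, Units.inv_mul, one_pow, one_mul]
    have e2 : (↑(w⁻¹) : A) ^ l * (↑(w⁻¹) : A) ^ k y * (↑w : A) ^ k y = (↑(w⁻¹) : A) ^ l := by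
      rw [mul_assoc, ← mul_pow, Units.inv_mul, one_pow, mul_one]
    rw [e1, e2] at h3
    exact h3
  let r : N →ₗ[G] (ι →₀ A) :=
    { toFun := r₀
      map_add' := fun y z => by
        have hy := huniq y (k y + k z) (f ^ k z • c y)
          (by rw [map_smul, ← hkc, smul_smul, ← pow_add, add_comm])
        have hz := huniq z (k y + k z) (f ^ k y • c z) (by rw [map_smul, ← hkc, smul_smul, ← pow_add])
        rw [huniq (y + z) (k y + k z) (f ^ k z • c y + f ^ k y • c z) (by
          rw [map_add, map_smul, map_smul, ← hkc, ← hkc, smul_smul, smul_smul, ← pow_add, ← pow_add,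
            smul_add, add_comm (k z)]), map_add, smul_add, hy, hz]
      map_smul' := fun g y => by
        rw [huniq (g • y) (k y) (g • c y) (by rw [map_smul, ← hkc, smul_comm]), map_smul, RingHom.id_apply,
          smul_comm] }
  let L : A ⊗[G] N →ₗ[A] (ι →₀ A) := r.liftBaseChange A
  let s : (ι →₀ A) →ₗ[A] A ⊗[G] N :=
    Finsupp.linearCombination A fun i => (1 : A) ⊗ₜ[G] φ (Finsupp.single i 1)
  have hs : ∀ d : ι →₀ G, s (mA d) = (1 : A) ⊗ₜ[G] φ d := by
    intro d
    refine LinearMap.congr_fun (f := (s.restrictScalars G).comp mA)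
      (g := (TensorProduct.mk G A N 1).comp φ) ?_ d
    ext i
    simp [s, mA]
  refine Module.Flat.of_linearEquiv (LinearEquiv.ofLinearMap L s ?_ ?_)
  · refine Finsupp.lhom_ext' fun i => LinearMap.ext_ring ?_
    simp only [LinearMap.comp_apply, Finsupp.lsingle_apply, LinearMap.id_apply, s, L,
      Finsupp.linearCombination_single, one_smul, LinearMap.liftBaseChange_tmul]
    show r₀ _ = _
    rw [huniq _ 0 (Finsupp.single i 1) (by rw [pow_zero, one_smul])]
    simp [mA]
  · refine TensorProduct.AlgebraTensorModule.ext fun b y => ?_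
    simp only [LinearMap.comp_apply, LinearMap.id_apply, L, LinearMap.liftBaseChange_tmul, map_smul]
    show b • s (((↑(w⁻¹) : A) ^ k y) • mA (c y)) = _
    rw [map_smul, hs, ← hkc, tmul_smul, ← algebraMap_smul A (f ^ k y), map_pow, ← hw, smul_smul, smul_smul,
      mul_assoc, ← mul_pow, Units.inv_mul, one_pow, mul_one, smul_tmul', smul_eq_mul, mul_one]

/-- `M` becomes flat after every base change killing `p` and inverting `f`. -/
def Triv (R : Type u) [CommRing R] (M : Type u) [AddCommGroup M] [Module R M] (p : Ideal R) (f : R) : Prop :=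
  ∀ (A : Type u) [CommRing A] [Algebra R A], (∀ x ∈ p, algebraMap R A x = 0) → IsUnit (algebraMap R A f) →
    Module.Flat A (A ⊗[R] M)

/-- Finitely many pieces of the base trivialising a finitely presented module. -/
theorem exists_triv_cover {R : Type u} [CommRing R] {S : Type u} [CommRing S] [Algebra R S]
    [Algebra.FinitePresentation R S] (M : Type u) [AddCommGroup M] [Module S M] [Module R M]
    [IsScalarTower R S M] [Module.FinitePresentation S M] :
    ∃ L : Finset (Ideal R × R), (∀ x ∈ L, x.1.FG ∧ Triv R M x.1 x.2) ∧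
      ∀ q : Ideal R, q.IsPrime → ∃ x ∈ L, x.1 ≤ q ∧ x.2 ∉ q := by
  classical
  obtain ⟨n, φ, hφ, hkerφ⟩ := Algebra.FinitePresentation.out (R := R) (A := S)
  let := φ.toRingHom.toAlgebra
  let := Module.compHom M φ.toRingHom
  have : IsScalarTower (MvPolynomial (Fin n) R) S M := ⟨fun p s m => mul_smul (φ p) s m⟩
  have : IsScalarTower R (MvPolynomial (Fin n) R) M := ⟨fun r p m => by
    show φ (r • p) • m = r • φ p • m
    rw [map_smul, smul_assoc]⟩
  have hkA : (LinearMap.ker (Algebra.linearMap (MvPolynomial (Fin n) R) S)).FG := hkerφ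
  have : Module.FinitePresentation (MvPolynomial (Fin n) R) S :=
    Module.finitePresentation_of_surjective (Algebra.linearMap (MvPolynomial (Fin n) R) S) hφ hkA
  have : Module.FinitePresentation (MvPolynomial (Fin n) R) M := Module.FinitePresentation.trans _ M S
  obtain ⟨a, π, hπ⟩ := Module.Finite.exists_fin' (MvPolynomial (Fin n) R) M
  obtain ⟨G, hG⟩ := Module.FinitePresentation.fg_ker π hπ
  let c : Finset R := G.biUnion fun v => Finset.univ.biUnion fun i => (v i).coeffs
  let R₀ : Subalgebra ℤ R := Algebra.adjoin ℤ (c : Set R)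
  have : Algebra.FiniteType ℤ R₀ := (Subalgebra.fg_iff_finiteType R₀).1 (Subalgebra.fg_adjoin_finset c)
  have : IsNoetherianRing R₀ := Algebra.FiniteType.isNoetherianRing ℤ R₀
  have hGdesc : ∀ v ∈ G, ∃ w : V a n R₀, mapV (algebraMap R₀ R) w = v := by
    intro v hv
    have : ∀ i, ∃ q : MvPolynomial (Fin n) R₀, MvPolynomial.map (algebraMap R₀ R) q = v i := fun i =>
      MvPolynomial.mem_range_map_iff_coeffs_subset.2 fun x hx =>
        ⟨⟨x, Algebra.subset_adjoin (Finset.mem_biUnion.2 ⟨v, hv, Finset.mem_biUnion.2 ⟨i, Finset.mem_univ _, hx⟩⟩)⟩, rfl⟩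
    choose w hw using this
    exact ⟨w, funext hw⟩
  choose! lv hlv using hGdesc
  let K₀ : Submodule (MvPolynomial (Fin n) R₀) (V a n R₀) := Submodule.span _ (lv '' G)
  have hker : LinearMap.ker π = KK K₀ R := by
    apply le_antisymm
    · rw [← hG, Submodule.span_le]
      intro v hv
      exact Submodule.subset_span ⟨lv v, Submodule.subset_span ⟨v, hv, rfl⟩, hlv v hv⟩
    · rw [KK, Submodule.span_le]
      rintro _ ⟨w, hw, rfl⟩
      refine Submodule.span_le.2 ?_ (mapV_mem_span (algebraMap R₀ R) hw)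
      rintro _ ⟨w, ⟨v, hv, rfl⟩, rfl⟩
      rw [hlv v hv]
      exact hG.le (Submodule.subset_span hv)
  let eM : Quot' K₀ R ≃ₗ[R] M := (Submodule.quotEquivOfEq _ (LinearMap.ker (π.restrictScalars R))
    (by rw [LinearMap.ker_restrictScalars, hker])).trans ((π.restrictScalars R).quotKerEquivOfSurjective hπ)
  obtain ⟨L₀, hL₀, hcov⟩ := exists_cover K₀ ⊥
  refine ⟨L₀.image fun x => (x.1.map (algebraMap R₀ R), algebraMap R₀ R x.2), ?_, fun q hq => ?_⟩
  · intro y hy
    obtain ⟨⟨p, f⟩, hx, rfl⟩ := Finset.mem_image.1 hy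
    refine ⟨Ideal.FG.map (IsNoetherian.noetherian p) _, fun A _ _ hp hf => ?_⟩
    obtain ⟨ι, s, hindep, hgen⟩ := hL₀ _ hx
    let := (Ideal.Quotient.lift p (algebraMap R₀ A) fun z hz => hp _ (Ideal.mem_map_of_mem _ hz)).toAlgebra
    have : IsScalarTower R₀ (R₀ ⧸ p) A := IsScalarTower.of_algebraMap_eq fun _ => rfl
    obtain ⟨e₁⟩ := nonempty_quot_baseChange (R := R) (R' := A) K₀
    obtain ⟨e₂⟩ := nonempty_quot_baseChange (R := R₀ ⧸ p) (R' := A) K₀
    let φG : (ι →₀ R₀ ⧸ p) →ₗ[R₀ ⧸ p] Quot' K₀ (R₀ ⧸ p) :=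
      (Submodule.mkQ _).comp (Finsupp.linearCombination (R₀ ⧸ p) s)
    have : Module.Flat A (A ⊗[R₀ ⧸ p] Quot' K₀ (R₀ ⧸ p)) := by
      refine flat_baseChange_of_free φG ?_ (Ideal.Quotient.mk p f) (fun y => ?_) hf
      · rw [injective_iff_map_eq_zero]
        intro v hv
        exact hindep v ((Submodule.Quotient.mk_eq_zero _).1 hv)
      · obtain ⟨x, rfl⟩ := Submodule.mkQ_surjective _ y
        obtain ⟨k, v, hv⟩ := hgen x
        refine ⟨k, v, ?_⟩
        rw [← LinearMap.map_smul]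
        exact (Submodule.Quotient.eq _).2 hv
    exact Module.Flat.of_linearEquiv
      (((eM.symm.baseChange R A _ _).trans e₁).trans e₂.symm)
  · obtain ⟨x, hx, hp, hf⟩ := hcov (q.comap (algebraMap R₀ R)) (hq.comap _) bot_le
    exact ⟨_, Finset.mem_image_of_mem _ hx, Ideal.map_le_iff_le_comap.2 hp, hf⟩

/-- Simultaneous pieces for finitely many modules. -/
theorem exists_common_cover {R : Type u} [CommRing R] {σ : Type*} (t : Finset σ) (P : σ → Ideal R → R → Prop)
    (hmono : ∀ i p f p' f', P i p f → P i (p ⊔ p') (f * f') ∧ P i (p' ⊔ p) (f' * f))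
    (h : ∀ i ∈ t, ∃ L : Finset (Ideal R × R), (∀ x ∈ L, x.1.FG ∧ P i x.1 x.2) ∧
      ∀ q : Ideal R, q.IsPrime → ∃ x ∈ L, x.1 ≤ q ∧ x.2 ∉ q) :
    ∃ L : Finset (Ideal R × R), (∀ x ∈ L, x.1.FG ∧ ∀ i ∈ t, P i x.1 x.2) ∧
      ∀ q : Ideal R, q.IsPrime → ∃ x ∈ L, x.1 ≤ q ∧ x.2 ∉ q := by
  classical
  induction t using Finset.induction with
  | empty =>
    exact ⟨{(⊥, 1)}, fun x hx => by
      obtain rfl := Finset.mem_singleton.1 hx
      exact ⟨Submodule.fg_bot, by simp⟩, fun q hq =>
      ⟨_, Finset.mem_singleton_self _, bot_le, fun h1 => hq.ne_top ((Ideal.eq_top_iff_one q).2 h1)⟩⟩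
  | insert i t _ ih =>
    obtain ⟨L, hL, hLc⟩ := ih fun j hj => h j (Finset.mem_insert_of_mem hj)
    obtain ⟨L', hL', hL'c⟩ := h i (Finset.mem_insert_self _ _)
    refine ⟨(L ×ˢ L').image fun z => (z.1.1 ⊔ z.2.1, z.1.2 * z.2.2), fun x hx => ?_, fun q hq => ?_⟩
    · obtain ⟨⟨z, z'⟩, hz, rfl⟩ := Finset.mem_image.1 hx
      obtain ⟨hz, hz'⟩ := Finset.mem_product.1 hz
      refine ⟨Submodule.FG.sup (hL z hz).1 (hL' z' hz').1, fun j hj => ?_⟩
      rcases Finset.mem_insert.1 hj with rfl | hj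
      · exact (hmono _ _ _ _ _ (hL' z' hz').2).2
      · exact (hmono _ _ _ _ _ ((hL z hz).2 j hj)).1
    · obtain ⟨z, hz, hp, hf⟩ := hLc q hq
      obtain ⟨z', hz', hp', hf'⟩ := hL'c q hq
      exact ⟨_, Finset.mem_image.2 ⟨(z, z'), Finset.mem_product.2 ⟨hz, hz'⟩, rfl⟩, sup_le hp hp', hq.mul_notMem hf hf'⟩

theorem Triv.mono {R : Type u} [CommRing R] {M : Type u} [AddCommGroup M] [Module R M] {p p' : Ideal R}
    {f f' : R} (h : Triv R M p f) : Triv R M (p ⊔ p') (f * f') ∧ Triv R M (p' ⊔ p) (f' * f) :=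
  ⟨fun A _ _ hp hu => h A (fun x hx => hp x (Ideal.mem_sup_left hx)) (by
      rw [map_mul] at hu; exact isUnit_of_mul_isUnit_left hu),
    fun A _ _ hp hu => h A (fun x hx => hp x (Ideal.mem_sup_right hx)) (by
      rw [map_mul] at hu; exact isUnit_of_mul_isUnit_right hu)⟩

end Groth.Agent.FlatStrat
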