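import Groth.Agent.FlatStrat.Alg
import Groth.Agent.QCoh.FlatOver
import Groth.Agent.QCoh.PullbackBC
import Groth.Agent.QCoh.FT
import Groth.Agent.MorLib.IdealFG
import Mathlib.AlgebraicGeometry.PullbackCarrier

/-!
Stratifications by finitely generated ideal sheaves adapted to finitely many locally closed pieces.
-/

set_option backward.isDefEq.respectTransparency false
set_option backward.isDefEq.respectTransparency.types false
set_option linter.style.haveILetI false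
set_option autoImplicit false

universe u

open CategoryTheory CategoryTheory.Limits AlgebraicGeometry TopologicalSpace Opposite TensorProduct

namespace Groth.Agent.FlatStrat

/-- Flatness of an inverse image from a flat base change of the sections. -/
theorem isFlatOverAt_pullback {X S X' T : Scheme.{u}} {u : X ⟶ S} {u' : X' ⟶ T} {g' : X' ⟶ X} {h : T ⟶ S}
    (hc : IsPullback g' u' u h) {F : X.Modules} (hF : Coh.IsQCoh F) {V : S.Opens} (hV : IsAffineOpen V)
    {U : X.Opens} (hU : IsAffineOpen U) (hUV : U ≤ u ⁻¹ᵁ V) {O : T.Opens} (hO : IsAffineOpen O)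
    (hOV : O ≤ h ⁻¹ᵁ V) (x' : X') (hx₁ : g' x' ∈ U) (hx₂ : u' x' ∈ O)
    (hflat : letI : Algebra Γ(S, V) Γ(T, O) := (h.appLE V O hOV).hom.toAlgebra
      letI : Module Γ(S, V) Γ(F, U) := Module.compHom _ (u.appLE V U hUV).hom
      Module.Flat Γ(T, O) (Γ(T, O) ⊗[Γ(S, V)] Γ(F, U))) :
    FlatMod.IsFlatOverAt u' ((Scheme.Modules.pullback g').obj F) x' := by
  let W : X'.Opens := g' ⁻¹ᵁ U ⊓ u' ⁻¹ᵁ O
  have hxW : x' ∈ W := ⟨hx₁, hx₂⟩
  have hW : IsAffineOpen W := by
    haveI : IsAffine _ := hV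
    haveI : IsAffine _ := hO
    haveI : IsAffine _ := hU
    exact .of_isIso (Scheme.Hom.isPullback_resLE hc hOV hUV (UY := W) rfl).isoPullback.hom
  have hpo := (isIso_pushoutSection_iff hc hOV hUV (UY := W) rfl).mp
    (isIso_pushoutSection_of_isAffineOpen hc hOV hUV rfl hV hO hU)
  let N := (Scheme.Modules.pullback g').obj F
  letI : Algebra Γ(S, V) Γ(X, U) := (u.appLE V U hUV).hom.toAlgebra
  letI : Algebra Γ(S, V) Γ(T, O) := (h.appLE V O hOV).hom.toAlgebra
  letI : Module Γ(S, V) Γ(F, U) := Module.compHom _ (u.appLE V U hUV).hom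
  haveI : IsScalarTower Γ(S, V) Γ(X, U) Γ(F, U) := .of_algebraMap_smul fun _ _ => rfl
  letI : Algebra Γ(X, U) Γ(X', W) := (g'.appLE U W inf_le_left).hom.toAlgebra
  letI : Algebra Γ(T, O) Γ(X', W) := (u'.appLE O W inf_le_right).hom.toAlgebra
  letI : Algebra Γ(S, V) Γ(X', W) := (u.appLE V U hUV ≫ g'.appLE U W inf_le_left).hom.toAlgebra
  haveI : IsScalarTower Γ(S, V) Γ(X, U) Γ(X', W) := .of_algebraMap_eq fun _ => rfl
  haveI : IsScalarTower Γ(S, V) Γ(T, O) Γ(X', W) := .of_algebraMap_eq fun r => congr($(hpo.w).hom r)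
  haveI : Algebra.IsPushout Γ(S, V) Γ(T, O) Γ(X, U) Γ(X', W) :=
    CommRingCat.isPushout_iff_isPushout.mp hpo.flip
  letI : Module Γ(X, U) Γ(N, W) := Module.compHom _ (g'.appLE U W inf_le_left).hom
  haveI : IsScalarTower Γ(X, U) Γ(X', W) Γ(N, W) := .of_algebraMap_smul fun _ _ => rfl
  let l : Γ(F, U) →ₗ[Γ(X, U)] Γ(N, W) :=
    { toFun := QCoh.pullSec g' F inf_le_left
      map_add' := QCoh.pullSec_add g' F inf_le_left
      map_smul' := fun r m => QCoh.pullSec_smul g' F inf_le_left r m }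
  have hb : IsBaseChange Γ(X', W) l :=
    QCoh.isBaseChange_pullback hU g' hW hF inf_le_left (fun _ => rfl) l fun _ => rfl
  letI : Module Γ(T, O) Γ(N, W) := Module.compHom _ (u'.appLE O W inf_le_right).hom
  haveI : IsScalarTower Γ(T, O) Γ(X', W) Γ(N, W) := .of_algebraMap_smul fun _ _ => rfl
  have h1 : Module.Flat Γ(T, O) (Γ(X', W) ⊗[Γ(X, U)] Γ(F, U)) :=
    Module.Flat.of_linearEquiv (Algebra.IsPushout.cancelBaseChange Γ(S, V) Γ(T, O) Γ(X, U) Γ(X', W) Γ(F, U))
  have h2 : Module.Flat Γ(T, O) Γ(N, W) :=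
    Module.Flat.of_linearEquiv (hb.equiv.restrictScalars Γ(T, O)).symm
  exact (QCoh.flat_appLE_iff u' (QCoh.isQCoh_pullback g' hF) hW hO inf_le_right).1 h2 x' hxW

/-- A locally closed piece `V(J) ∩ W` of `S`, with its finitely generated ideals. -/
structure Piece (S : Scheme.{u}) where
  J : S.IdealSheafData
  K : S.IdealSheafData
  W : S.Opens
  fgJ : ∀ U : S.affineOpens, (J.ideal U).FG
  fgK : ∀ U : S.affineOpens, (K.ideal U).FG
  suppK : ∀ s, s ∈ K.support ↔ s ∉ W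

variable {X S : Scheme.{u}}

/-- Over the piece, the module becomes flat after every base change. -/
def Piece.Good (P : Piece S) (f : X ⟶ S) (F : X.Modules) : Prop :=
  ∀ (T : Scheme.{u}) (h : T ⟶ S) (t : T) (W₁ : S.affineOpens), h t ∈ W₁.1 → W₁.1 ≤ P.W →
    (∀ a ∈ P.J.ideal W₁, h.app W₁.1 a = 0) →
    ∀ x' : ↥(pullback f h), pullback.snd f h x' = t →
      FlatMod.IsFlatOverAt (pullback.snd f h) ((Scheme.Modules.pullback (pullback.fst f h)).obj F) x'

/-- The inclusion of the stratum of two ideal sheaves. -/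
noncomputable abbrev strat (I I' : S.IdealSheafData) :=
  ((I.subschemeι ⁻¹ᵁ I'.support.compl).ι ≫ I.subschemeι)

/-- One step of a flattening stratification. -/
def Step (f : X ⟶ S) (F : X.Modules) (I I' : S.IdealSheafData) : Prop :=
  I ≤ I' ∧ (∀ U : S.affineOpens, (I.ideal U).FG) ∧
    FlatMod.IsFlatOver (pullback.snd f (strat I I'))
      ((Scheme.Modules.pullback (pullback.fst f (strat I I'))).obj F)

theorem strat_apply (I I' : S.IdealSheafData) (t : ↥(I.subschemeι ⁻¹ᵁ I'.support.compl)) :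
    strat I I' t ∈ I.support ∧ strat I I' t ∉ I'.support := by
  refine ⟨?_, t.2⟩
  rw [← SetLike.mem_coe, ← I.range_subschemeι]
  exact ⟨t.1, rfl⟩

theorem step_of_empty (f : X ⟶ S) (F : X.Modules) {I I' : S.IdealSheafData} (hle : I ≤ I')
    (hfg : ∀ U : S.affineOpens, (I.ideal U).FG) (h : ∀ s, s ∈ I.support → s ∈ I'.support) :
    Step f F I I' :=
  ⟨hle, hfg, fun x' => absurd (h _ (strat_apply I I' (pullback.snd f (strat I I') x')).1)
    (strat_apply I I' (pullback.snd f (strat I I') x')).2⟩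

theorem ideal_eq_top_of_disjoint (I : S.IdealSheafData) (U : S.affineOpens)
    (h : ∀ s ∈ U.1, s ∉ I.support) : I.ideal U = ⊤ := by
  by_contra hne
  obtain ⟨m, hm, hle⟩ := Ideal.exists_le_maximal _ hne
  obtain ⟨y, hy, hyq⟩ := QCoh.exists_point U.2 ⟨m, hm.isPrime⟩
  refine h y hy ((Scheme.IdealSheafData.mem_support_iff_of_mem hy).2 ?_)
  rw [Scheme.mem_zeroLocus_iff]
  intro a ha hb
  have h3 : U.2.primeIdealOf ⟨y, hy⟩ ∈ PrimeSpectrum.basicOpen a := by
    rw [← U.2.fromSpec_preimage_basicOpen]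
    show U.2.fromSpec (U.2.primeIdealOf ⟨y, hy⟩) ∈ S.basicOpen a
    rwa [U.2.fromSpec_primeIdealOf]
  rw [hyq] at h3
  exact h3 (hle ha)

theorem chain_of_pieces (f : X ⟶ S) (F : X.Modules) :
    ∀ (l : List (Piece S)), (∀ P ∈ l, P.Good f F) → ∀ (I I' : S.IdealSheafData), I ≤ I' →
      (∀ U : S.affineOpens, (I.ideal U).FG) → (∀ U : S.affineOpens, (I'.ideal U).FG) →
      (∀ s, s ∈ I.support → s ∉ I'.support → ∃ P ∈ l, s ∈ P.J.support ∧ s ∈ P.W) →
      Relation.ReflTransGen (Step f F) I I' := by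
  intro l
  induction l with
  | nil =>
    intro _ I I' hle hI _ hcov
    refine Relation.ReflTransGen.single (step_of_empty f F hle hI fun s hs => ?_)
    by_contra h
    obtain ⟨P, hP, -⟩ := hcov s hs h
    simp at hP
  | cons P l ih =>
    intro hgood I I' hle hI hI' hcov
    have hgl : ∀ Q ∈ l, Q.Good f F := fun Q hQ => hgood Q (List.mem_cons_of_mem _ hQ)
    let L₁ := I ⊔ P.J * I'
    let L₂ := L₁ ⊔ P.K * I'
    have hmul : ∀ J : S.IdealSheafData, J * I' ≤ I' := fun J U => by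
      rw [Scheme.IdealSheafData.ideal_mul]
      exact Ideal.mul_le_right (I := J.ideal U) (J := I'.ideal U)
    have h01 : I ≤ L₁ := le_sup_left
    have h12 : L₁ ≤ L₂ := le_sup_left
    have h23 : L₂ ≤ I' := sup_le (sup_le hle (hmul _)) (hmul _)
    have hL₁ : ∀ U : S.affineOpens, (L₁.ideal U).FG := fun U => by
      simp only [L₁, Scheme.IdealSheafData.ideal_sup, Scheme.IdealSheafData.ideal_mul, Pi.sup_apply, Pi.mul_apply]
      exact Submodule.FG.sup (hI U) (Submodule.FG.mul (P.fgJ U) (hI' U))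
    have hL₂ : ∀ U : S.affineOpens, (L₂.ideal U).FG := fun U => by
      simp only [L₂, Scheme.IdealSheafData.ideal_sup, Scheme.IdealSheafData.ideal_mul, Pi.sup_apply, Pi.mul_apply]
      exact Submodule.FG.sup (hL₁ U) (Submodule.FG.mul (P.fgK U) (hI' U))
    have hs₁ : ∀ s, s ∈ L₁.support ↔ s ∈ I.support ∧ (s ∈ P.J.support ∨ s ∈ I'.support) := fun s => by
      simp only [L₁, Scheme.IdealSheafData.support_sup, Scheme.IdealSheafData.support_mul]
      rfl
    have hs₂ : ∀ s, s ∈ L₂.support ↔ s ∈ L₁.support ∧ (s ∈ P.K.support ∨ s ∈ I'.support) := fun s => by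
      simp only [L₂, Scheme.IdealSheafData.support_sup, Scheme.IdealSheafData.support_mul]
      rfl
    refine (ih hgl I L₁ h01 hI hL₁ fun s hs hs' => ?_).trans (Relation.ReflTransGen.trans
      (Relation.ReflTransGen.single ⟨h12, hL₁, ?_⟩) (ih hgl L₂ I' h23 hL₂ hI' fun s hs hs' => ?_))
    · have hn : s ∉ P.J.support ∧ s ∉ I'.support :=
        ⟨fun h => hs' ((hs₁ s).2 ⟨hs, Or.inl h⟩), fun h => hs' ((hs₁ s).2 ⟨hs, Or.inr h⟩)⟩
      obtain ⟨Q, hQ, hQ₁, hQ₂⟩ := hcov s hs hn.2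
      rcases List.mem_cons.1 hQ with rfl | hQ
      · exact absurd hQ₁ hn.1
      · exact ⟨Q, hQ, hQ₁, hQ₂⟩
    · intro x'
      set t := pullback.snd f (strat L₁ L₂) x' with ht
      obtain ⟨hst₁, hst₂⟩ := strat_apply L₁ L₂ t
      have htW : strat L₁ L₂ t ∈ P.W := by
        by_contra h
        exact hst₂ ((hs₂ _).2 ⟨hst₁, Or.inl ((P.suppK _).2 h)⟩)
      have htI : strat L₁ L₂ t ∉ I'.support := fun h => hst₂ ((hs₂ _).2 ⟨hst₁, Or.inr h⟩)
      obtain ⟨W₁, hW₁, htW₁, hsub⟩ := exists_isAffineOpen_mem_and_subset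
        (U := P.W ⊓ I'.support.compl) (x := strat L₁ L₂ t) ⟨htW, htI⟩
      refine hgood P List.mem_cons_self _ _ t ⟨W₁, hW₁⟩ htW₁ (fun s hs => (hsub hs).1) (fun a ha => ?_) x' rfl
      have ha' : a ∈ L₁.ideal ⟨W₁, hW₁⟩ := by
        simp only [L₁, Scheme.IdealSheafData.ideal_sup, Scheme.IdealSheafData.ideal_mul, Pi.sup_apply, Pi.mul_apply]
        refine Ideal.mem_sup_right ?_
        rw [ideal_eq_top_of_disjoint I' ⟨W₁, hW₁⟩ fun s hs => (hsub hs).2, Ideal.mul_top]
        exact ha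
      rw [← L₁.ker_subschemeι_app ⟨W₁, hW₁⟩, RingHom.mem_ker] at ha'
      show ((L₁.subschemeι ⁻¹ᵁ L₂.support.compl).ι ≫ L₁.subschemeι).app W₁ a = 0
      rw [Scheme.Hom.comp_app, CommRingCat.comp_apply, ha', map_zero]
    · have hsI : s ∈ I.support := ((hs₁ s).1 ((hs₂ s).1 hs).1).1
      have hK : s ∈ P.K.support := (((hs₂ s).1 hs).2).resolve_right hs'
      obtain ⟨Q, hQ, hQ₁, hQ₂⟩ := hcov s hsI hs'
      rcases List.mem_cons.1 hQ with rfl | hQ
      · exact absurd hQ₂ ((Q.suppK s).1 hK)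
      · exact ⟨Q, hQ, hQ₁, hQ₂⟩

/-- The piece of an ideal and a function on an affine open. -/
theorem exists_piece [CompactSpace S] [QuasiSeparatedSpace S] {V : S.Opens} (hV : IsAffineOpen V)
    (p : Ideal Γ(S, V)) (hp : p.FG) (g : Γ(S, V)) :
    ∃ P : Piece S, P.W = S.basicOpen g ∧ p ≤ P.J.ideal ⟨V, hV⟩ ∧
      S.zeroLocus (U := V) p ⊆ P.J.support := by
  let Z : Closeds S := ⟨S.zeroLocus (U := V) p, S.zeroLocus_isClosed _⟩
  let Z' : Closeds S := ⟨(S.basicOpen g : Set S)ᶜ, (S.basicOpen g).2.isClosed_compl⟩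
  obtain ⟨J, hJ, hJfg, hpJ⟩ := MorLib.IdealFG.exists_fg_le (Scheme.IdealSheafData.vanishingIdeal Z) ⟨V, hV⟩ p hp (by
    intro a ha
    rw [Scheme.IdealSheafData.vanishingIdeal_ideal, PrimeSpectrum.mem_vanishingIdeal]
    intro q hq
    by_contra hna
    have h1 : hV.fromSpec q ∈ S.basicOpen a := by
      show q ∈ hV.fromSpec ⁻¹ᵁ S.basicOpen a
      rw [hV.fromSpec_preimage_basicOpen]
      exact hna
    exact (Scheme.mem_zeroLocus_iff _ _ _).1 hq a ha h1)
  have hW : IsAffineOpen (S.basicOpen g) := hV.basicOpen g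
  obtain ⟨K, hK, hKfg, htop⟩ := MorLib.IdealFG.exists_fg_le (Scheme.IdealSheafData.vanishingIdeal Z')
    ⟨S.basicOpen g, hW⟩ ⊤ ⟨{1}, by rw [Finset.coe_singleton]; exact Ideal.span_singleton_one⟩ (by
      intro a _
      rw [Scheme.IdealSheafData.vanishingIdeal_ideal, PrimeSpectrum.mem_vanishingIdeal]
      intro q hq
      refine absurd ?_ hq
      have : hW.fromSpec q ∈ Set.range hW.fromSpec := ⟨q, rfl⟩
      rwa [hW.range_fromSpec] at this)
  refine ⟨⟨J, K, S.basicOpen g, hJfg, hKfg, fun s => ⟨fun hs hsW => ?_, fun hs => ?_⟩⟩, rfl, hpJ, ?_⟩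
  · rw [Scheme.IdealSheafData.mem_support_iff_of_mem (U := ⟨S.basicOpen g, hW⟩) hsW,
      Scheme.mem_zeroLocus_iff] at hs
    refine hs 1 (htop Submodule.mem_top) ?_
    rw [Scheme.basicOpen_of_isUnit _ isUnit_one]
    exact hsW
  · exact (Scheme.IdealSheafData.le_support_iff_le_vanishingIdeal.2 hK) hs
  · exact Scheme.IdealSheafData.le_support_iff_le_vanishingIdeal.2 hJ

end Groth.Agent.FlatStrat
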